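import Groth.Agent.KFlatLib.Scheme.GammaPushUnit
import Groth.Agent.KFlatLib.Scheme.RHomLocal
import Groth.Agent.KFlatLib.Perfect.DLocal
import Groth.Agent.KFlatLib.Scheme.Exact
import Groth.Prelude.Def_DCoh3

/-!
# Isomorphisms in `D(O_Y)` are detected by the hypercohomology of affine opens
-/

set_option linter.style.haveILetI false
set_option backward.isDefEq.respectTransparency false

universe u

open CategoryTheory CategoryTheory.Limits AlgebraicGeometry TopologicalSpace Pretriangulated Opposite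

attribute [local instance] HasDerivedCategory.standard

noncomputable section

namespace Groth.Agent.AffRGamma7

open Groth.Agent.KFlatLib

variable {Y : Scheme.{u}}

/-- A complex with exact sections on all affine opens is exact. -/
theorem exactAt_of_sections (D : CochainComplex Y.Modules ℤ)
    (h : ∀ U : Y.Opens, IsAffineOpen U → ∀ n : ℤ,
      ((mapCx (DCoh.gammaAb (U : Scheme.{u}))).obj ((rCx U.ι).obj D)).ExactAt n) (n : ℤ) :
    D.ExactAt n := by
  rw [D.exactAt_iff' (n - 1) n (n + 1) (by simp) (by simp), exact_iff_stalk]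
  intro x
  rw [ShortComplex.moduleCat_exact_iff]
  intro m hm
  obtain ⟨V, hxV, s, hs⟩ := TopCat.Presheaf.exists_germ_eq (C := AddCommGrpCat.{u}) (D.X n).presheaf (x := x) m
  subst hs
  have h0 : (D.X (n + 1)).presheaf.germ V x hxV ((D.d n (n + 1)).app V s) =
      (D.X (n + 1)).presheaf.germ V x hxV 0 := by
    rw [map_zero]
    refine Eq.trans ?_ hm
    exact (TopCat.Presheaf.stalkFunctor_map_germ_apply V x hxV
      ((Scheme.Modules.toPresheaf Y).map (D.d n (n + 1))) s).symm
  obtain ⟨W, hxW, iV, iV', e⟩ := TopCat.Presheaf.germ_eq _ x hxV hxV _ _ h0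
  obtain ⟨U, hU, hxU, hUW⟩ := exists_isAffineOpen_mem_and_subset (x := x) (U := W) hxW
  let W' : Y.Opens := U.ι ''ᵁ ⊤
  have hW' : W' = U := U.ι_image_top
  have hxW' : x ∈ W' := hW'.symm ▸ hxU
  have hWV : W' ≤ V := hW'.le.trans (hUW.trans iV.le)
  let z : Γ(D.X n, W') := (D.X n).presheaf.map (homOfLE hWV).op s
  have hz : (D.d n (n + 1)).app W' z = 0 := by
    have nat := congr($(((Scheme.Modules.toPresheaf Y).map (D.d n (n + 1))).naturality (homOfLE hWV).op) s)
    refine nat.trans ?_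
    have h2 := congrArg ((D.X (n + 1)).presheaf.map (homOfLE (hW'.le.trans hUW)).op) e
    rw [map_zero, map_zero, ← ConcreteCategory.comp_apply, ← Functor.map_comp] at h2
    exact h2
  have hex := h U hU n
  rw [HomologicalComplex.exactAt_iff' _ (n - 1) n (n + 1) (by simp) (by simp), ShortComplex.ab_exact_iff] at hex
  obtain ⟨w, hw⟩ := hex z hz
  refine ⟨(D.X (n - 1)).presheaf.germ W' x hxW' w, ?_⟩
  refine (TopCat.Presheaf.stalkFunctor_map_germ_apply W' x hxW'
    ((Scheme.Modules.toPresheaf Y).map (D.d (n - 1) n)) w).trans ?_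
  exact (congrArg ((D.X n).presheaf.germ W' x hxW') hw).trans
    (TopCat.Presheaf.germ_res_apply _ (homOfLE hWV) x hxW' s)

theorem isIso_Q_map_iff_exactAt {C : Type*} [Category C] [Abelian C] [HasDerivedCategory C]
    {K L : CochainComplex C ℤ} (s : K ⟶ L) :
    IsIso (DerivedCategory.Q.map s) ↔ ∀ n, (CochainComplex.mappingCone s).ExactAt n := by
  have hT : DerivedCategory.Q.mapTriangle.obj (CochainComplex.mappingCone.triangle s) ∈
      distTriang (DerivedCategory C) :=
    (DerivedCategory.mem_distTriang_iff _).2 ⟨_, _, s, ⟨Iso.refl _⟩⟩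
  refine (Triangle.isZero₃_iff_isIso₁ _ hT).symm.trans ?_
  show IsZero (DerivedCategory.Q.obj (CochainComplex.mappingCone s)) ↔ _
  simp only [HomologicalComplex.exactAt_iff_isZero_homology]
  constructor
  · intro hz n
    exact ((DerivedCategory.homologyFunctor C n).map_isZero hz).of_iso
      ((DerivedCategory.homologyFunctorFactors C n).app _).symm
  · intro hz
    haveI : (DerivedCategory.Q.obj (CochainComplex.mappingCone s)).IsLE 0 := (DerivedCategory.isLE_iff _ _).2
      fun i _ => (hz i).of_iso ((DerivedCategory.homologyFunctorFactors C i).app _)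
    haveI : (DerivedCategory.Q.obj (CochainComplex.mappingCone s)).IsGE 1 := (DerivedCategory.isGE_iff _ _).2
      fun i _ => (hz i).of_iso ((DerivedCategory.homologyFunctorFactors C i).app _)
    exact DerivedCategory.TStructure.t.isZero _ 0 1 (by omega)

theorem isIso_iff_affine [∀ U : Y.Opens, DCoh.HasRΓ (U : Scheme.{u})] {G₁ G₂ : DCoh.D Y} (φ : G₁ ⟶ G₂) :
    IsIso φ ↔ ∀ U : Y.Opens, IsAffineOpen U →
      IsIso ((DCoh.RΓ (U : Scheme.{u})).map ((DCoh.restrictD U.ι).map φ)) := by
  refine ⟨fun _ U _ => inferInstance, fun h => ?_⟩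
  obtain ⟨I₁, s₁, hI₁, hs₁⟩ := exists_kInjective_res (DerivedCategory.Q.objPreimage G₁)
  obtain ⟨I₂, s₂, hI₂, hs₂⟩ := exists_kInjective_res (DerivedCategory.Q.objPreimage G₂)
  haveI := hI₁; haveI := hI₂; haveI := hs₁; haveI := hs₂
  haveI : IsIso (DerivedCategory.Q.map s₁) := (DerivedCategory.isIso_Q_map_iff_quasiIso _ _).2 inferInstance
  haveI : IsIso (DerivedCategory.Q.map s₂) := (DerivedCategory.isIso_Q_map_iff_quasiIso _ _).2 inferInstance
  let e₁ : DerivedCategory.Q.obj I₁ ≅ G₁ :=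
    (asIso (DerivedCategory.Q.map s₁)).symm ≪≫ DerivedCategory.Q.objObjPreimageIso G₁
  let e₂ : DerivedCategory.Q.obj I₂ ≅ G₂ :=
    (asIso (DerivedCategory.Q.map s₂)).symm ≪≫ DerivedCategory.Q.objObjPreimageIso G₂
  let q := HomotopyCategory.quotient Y.Modules (ComplexShape.up ℤ)
  let c := DerivedCategory.quotientCompQhIso Y.Modules
  obtain ⟨u, hu⟩ := (CochainComplex.IsKInjective.Qh_map_bijective (q.obj I₁) I₂).2
    (c.hom.app I₁ ≫ (e₁.hom ≫ φ ≫ e₂.inv) ≫ c.inv.app I₂)
  obtain ⟨s, rfl⟩ := q.map_surjective u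
  have hQ : DerivedCategory.Q.map s = e₁.hom ≫ φ ≫ e₂.inv := by
    rw [← cancel_epi (c.hom.app I₁), ← c.hom.naturality s]
    show DerivedCategory.Qh.map (q.map s) ≫ _ = _
    rw [hu]
    simp
  suffices IsIso (DerivedCategory.Q.map s) by
    rw [show φ = e₁.inv ≫ DerivedCategory.Q.map s ≫ e₂.hom by rw [hQ]; simp]
    infer_instance
  rw [isIso_Q_map_iff_exactAt]
  refine exactAt_of_sections _ fun U hU n => ?_
  haveI := isKInjective_rCx U.ι I₁
  haveI := isKInjective_rCx U.ι I₂
  let sU := (rCx U.ι).map s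
  have h1 : IsIso ((DCoh.RΓ (U : Scheme.{u})).map (DerivedCategory.Q.map sU)) := by
    haveI := h U hU
    have : IsIso ((DCoh.RΓ (U : Scheme.{u})).map ((rho U.ι).map (DerivedCategory.Q.map s))) := by
      rw [hQ, Functor.map_comp, Functor.map_comp, Functor.map_comp, Functor.map_comp]
      infer_instance
    exact (NatIso.isIso_map_iff (Functor.isoWhiskerRight (rhoQ U.ι) (DCoh.RΓ (U : Scheme.{u}))) s).1 this
  let qU := HomotopyCategory.quotient (U : Scheme.{u}).Modules (ComplexShape.up ℤ)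
  have h2 : IsIso ((DCoh.RΓ (U : Scheme.{u})).map (DerivedCategory.Qh.map (qU.map sU))) :=
    (NatIso.isIso_map_iff (Functor.isoWhiskerRight (DerivedCategory.quotientCompQhIso (U : Scheme.{u}).Modules)
      (DCoh.RΓ (U : Scheme.{u}))) sU).2 h1
  let β := (DCoh.gammaKh (U : Scheme.{u})).totalRightDerivedUnit DerivedCategory.Qh
    (HomotopyCategory.quasiIso (U : Scheme.{u}).Modules (ComplexShape.up ℤ))
  have b1 : IsIso (β.app (qU.obj ((rCx U.ι).obj I₁))) := isIso_rightDerivedUnit_of_kInjective (DCoh.gammaKh (U : Scheme.{u})) _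
  have b2 : IsIso (β.app (qU.obj ((rCx U.ι).obj I₂))) := isIso_rightDerivedUnit_of_kInjective (DCoh.gammaKh (U : Scheme.{u})) _
  have h3 : IsIso ((DCoh.gammaKh (U : Scheme.{u})).map (qU.map sU) ≫ β.app (qU.obj ((rCx U.ι).obj I₂))) :=
    (β.naturality (qU.map sU)).symm ▸ IsIso.comp_isIso' b1 h2
  have h4 : IsIso ((DCoh.gammaKh (U : Scheme.{u})).map (qU.map sU)) :=
    IsIso.of_isIso_comp_right _ (β.app (qU.obj ((rCx U.ι).obj I₂)))
  let G := DCoh.gammaAb (U : Scheme.{u})
  have h5 : IsIso (DerivedCategory.Q.map ((mapCx G).map sU)) :=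
    (NatIso.isIso_map_iff (DerivedCategory.quotientCompQhIso AddCommGrpCat.{u}) ((mapCx G).map sU)).1 h4
  refine ((isIso_Q_map_iff_exactAt _).1 h5 n).of_iso ?_
  exact (CochainComplex.mappingCone.mapHomologicalComplexIso sU G).symm ≪≫
    (mapCx G).mapIso (CochainComplex.mappingCone.mapHomologicalComplexIso s
      (Scheme.Modules.restrictFunctor U.ι)).symm

end Groth.Agent.AffRGamma7
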